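import Mathlib
import Groth.Agent.PushFunLib.Main
import Groth.Agent.ChevLib.Basic

/-! Ideal sheaves supported in the closed fibre descend along completion of a DVR. -/

set_option autoImplicit false
set_option backward.isDefEq.respectTransparency false
universe u

open CategoryTheory CategoryTheory.Limits AlgebraicGeometry

namespace DescComplLib

theorem mem_closure_of_isPushout {A B C P : CommRingCat.{u}} {f : A ⟶ B} {g : A ⟶ C} {inl : B ⟶ P} {inr : C ⟶ P}
    (h : IsPushout f g inl inr) (p : P) :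
    p ∈ Subring.closure (Set.range inl.hom ∪ Set.range inr.hom) := by
  let S := Subring.closure (Set.range inl.hom ∪ Set.range inr.hom)
  let l : B ⟶ CommRingCat.of S :=
    CommRingCat.ofHom (inl.hom.codRestrict S fun b => Subring.subset_closure (Or.inl ⟨b, rfl⟩))
  let r : C ⟶ CommRingCat.of S :=
    CommRingCat.ofHom (inr.hom.codRestrict S fun b => Subring.subset_closure (Or.inr ⟨b, rfl⟩))
  have w : f ≫ l = g ≫ r := by
    ext a
    exact congrArg (fun φ : A ⟶ P => φ.hom a) h.w
  have hid : h.desc l r w ≫ CommRingCat.ofHom S.subtype = 𝟙 P :=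
    h.hom_ext (by rw [h.inl_desc_assoc, Category.comp_id]; rfl) (by rw [h.inr_desc_assoc, Category.comp_id]; rfl)
  have hp := (h.desc l r w p).2
  rwa [show ((h.desc l r w p : S) : P) = p from congrArg (fun φ => φ.hom p) hid] at hp

variable (R : Type u) [CommRing R] [IsDomain R] [IsDiscreteValuationRing R]

local notation "Rh" => AdicCompletion (IsLocalRing.maximalIdeal R) R

theorem exists_add_pow {ϖ : R} (hϖ : IsLocalRing.maximalIdeal R = Ideal.span {ϖ}) (n : ℕ) (x : Rh) :
    ∃ (r : R) (y : Rh), x = algebraMap R Rh r + algebraMap R Rh (ϖ ^ n) * y := by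
  obtain ⟨r, hr⟩ := Submodule.Quotient.mk_surjective _ (AdicCompletion.eval (IsLocalRing.maximalIdeal R) R n x)
  have hmem : x - algebraMap R Rh r ∈ (IsLocalRing.maximalIdeal R ^ n • ⊤ : Submodule R Rh) := by
    rw [AdicCompletion.pow_smul_top_eq_ker_eval (IsNoetherian.noetherian _), LinearMap.mem_ker, map_sub, ← hr,
      sub_eq_zero]
    rfl
  have hspan : IsLocalRing.maximalIdeal R ^ n = Ideal.span {ϖ ^ n} := by rw [hϖ, Ideal.span_singleton_pow]
  rw [Ideal.smul_top_eq_map, hspan, Submodule.restrictScalars_mem, Ideal.map_span, Set.image_singleton,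
    Ideal.mem_span_singleton'] at hmem
  obtain ⟨y, hy⟩ := hmem
  exact ⟨r, y, by rw [mul_comm, hy]; ring⟩

/-- The descended ideal extends to the given one. -/
theorem comap_map_eq {Y : Scheme.{u}} (q : Y ⟶ Spec (CommRingCat.of R))
    (s : Spec (CommRingCat.of Rh) ⟶ Spec (CommRingCat.of R)) (hs : s = Spec.map (CommRingCat.ofHom (algebraMap R Rh)))
    [IsAffineHom s]
    (I : (pullback q s).IdealSheafData)
    (hI : (I.support : Set ↥(pullback q s)) ⊆ (pullback.fst q s ≫ q).base ⁻¹' {IsLocalRing.closedPoint R}) :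
    (I.map (pullback.fst q s)).comap (pullback.fst q s) = I := by
  let p := pullback.fst q s
  haveI : IsAffineHom p := MorphismProperty.pullback_fst q s inferInstance
  obtain ⟨ϖ, hirr⟩ := IsDiscreteValuationRing.exists_irreducible R
  have hϖ : IsLocalRing.maximalIdeal R = Ideal.span {ϖ} := hirr.maximalIdeal_eq
  refine le_antisymm (Scheme.IdealSheafData.comap_map_le I p) ?_
  refine Scheme.IdealSheafData.le_of_iSup_eq_top (fun U : Y.affineOpens => ⟨p ⁻¹ᵁ U.1, U.2.preimage p⟩)
    (by rw [← Scheme.Hom.preimage_iSup, show (⨆ i : Y.affineOpens, i.1) = ⊤ from iSup_affineOpens_eq_top Y, Scheme.Hom.preimage_top]) fun U => ?_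
  let V : (pullback q s).affineOpens := ⟨p ⁻¹ᵁ U.1, U.2.preimage p⟩
  have hpo := Groth.Agent.PushFun.isPushout_appLE (IsPullback.of_hasPullback q s)
    (isAffineOpen_top (Spec (CommRingCat.of R))) U.2 (le_top.trans_eq (Scheme.Hom.preimage_top q).symm)
    (isAffineOpen_top (Spec (CommRingCat.of Rh))) (Scheme.Hom.preimage_top s).symm V.2 rfl
    (le_top.trans_eq (Scheme.Hom.preimage_top _).symm)
  let cR : R →+* Γ(Y, U.1) :=
    (q.appLE ⊤ U.1 (le_top.trans_eq (Scheme.Hom.preimage_top q).symm)).hom.comp (Scheme.ΓSpecIso (CommRingCat.of R)).inv.hom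
  let a : Γ(Y, U.1) →+* Γ(pullback q s, V.1) := (p.appLE U.1 V.1 le_rfl).hom
  let cH : Rh →+* Γ(pullback q s, V.1) :=
    ((pullback.snd q s).appLE ⊤ V.1 (le_top.trans_eq (Scheme.Hom.preimage_top _).symm)).hom.comp
      (Scheme.ΓSpecIso (CommRingCat.of Rh)).inv.hom
  have hcomm : ∀ r, cH (algebraMap R Rh r) = a (cR r) := fun r => by
    have h1 := congrArg (fun φ => φ.hom ((Scheme.ΓSpecIso (CommRingCat.of R)).inv.hom r)) hpo.w
    simp only [CommRingCat.hom_comp, RingHom.comp_apply] at h1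
    have h2 : (s.appLE ⊤ ⊤ (Scheme.Hom.preimage_top s).ge).hom ((Scheme.ΓSpecIso (CommRingCat.of R)).inv.hom r) =
        (Scheme.ΓSpecIso (CommRingCat.of Rh)).inv.hom (algebraMap R Rh r) := by
      subst hs
      rw [Scheme.Hom.appLE]
      exact (congrArg (fun φ => φ.hom r) (Scheme.ΓSpecIso_inv_naturality (CommRingCat.ofHom (algebraMap R Rh)))).symm
    show ((pullback.snd q s).appLE ⊤ V.1 _).hom ((Scheme.ΓSpecIso (CommRingCat.of Rh)).inv.hom (algebraMap R Rh r)) = _
    rw [← h2]
    exact h1.symm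
  let t := cR ϖ
  have hrad : a t ∈ (I.ideal V).radical := by
    rw [← PrimeSpectrum.vanishingIdeal_zeroLocus_eq_radical, PrimeSpectrum.mem_vanishingIdeal]
    intro P hP
    by_contra hPt
    have hmem : V.2.fromSpec P ∈ (I.support : Set ↥(pullback q s)) := by
      have h2 : V.2.fromSpec P ∈ (pullback q s).zeroLocus (U := V.1) (I.ideal V) := by
        rw [← Set.mem_preimage, V.2.fromSpec_preimage_zeroLocus]
        exact hP
      exact ((Scheme.IdealSheafData.coe_support_inter I V).symm ▸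
        ⟨h2, V.2.range_fromSpec ▸ Set.mem_range_self P⟩ :
          V.2.fromSpec P ∈ (I.support : Set ↥(pullback q s)) ∩ (V.1 : Set ↥(pullback q s))).1
    have hcl : (p ≫ q).base (V.2.fromSpec P) = IsLocalRing.closedPoint R := hI hmem
    have hb : V.2.fromSpec P ∈ (pullback q s).basicOpen (a t) := by
      show P ∈ V.2.fromSpec ⁻¹ᵁ (pullback q s).basicOpen (a t)
      rw [V.2.fromSpec_preimage_basicOpen]
      exact hPt
    have hb' : p.base (V.2.fromSpec P) ∈ Y.basicOpen t := by
      rw [Scheme.basicOpen_appLE] at hb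
      exact hb.2
    have hb2 : q.base (p.base (V.2.fromSpec P)) ∈ (Spec (CommRingCat.of R)).basicOpen ((Scheme.ΓSpecIso (CommRingCat.of R)).inv.hom ϖ) := by
      rw [show t = (q.appLE ⊤ U.1 _).hom ((Scheme.ΓSpecIso (CommRingCat.of R)).inv.hom ϖ) from rfl,
        Scheme.basicOpen_appLE] at hb'
      exact hb'.2
    rw [basicOpen_eq_of_affine] at hb2
    simp only [Iso.inv_hom_id_apply, CommRingCat.inv_hom_apply] at hb2
    rw [show q.base (p.base (V.2.fromSpec P)) = IsLocalRing.closedPoint R from hcl] at hb2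
    refine hb2 (show ϖ ∈ IsLocalRing.maximalIdeal R from ?_)
    rw [hϖ]
    exact Ideal.mem_span_singleton_self ϖ
  obtain ⟨n, hn⟩ := hrad
  intro x hx
  rw [ChevLib.ideal_comap_of_isAffineHom (I.map p) p U, Scheme.IdealSheafData.ideal_map_of_isAffineHom]
  let mkq := Ideal.Quotient.mk (Ideal.span {a t ^ n})
  have hall : ∀ z, z ∈ ((mkq.comp a).range.comap mkq : Subring _) := fun z => by
    refine (Subring.closure_le.2 ?_) (mem_closure_of_isPushout hpo z)
    rintro _ (⟨b, rfl⟩ | ⟨c, rfl⟩)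
    · exact ⟨b, rfl⟩
    · obtain ⟨r, y, hy⟩ := exists_add_pow R hϖ n ((Scheme.ΓSpecIso (CommRingCat.of Rh)).hom.hom c)
      refine ⟨cR r, ?_⟩
      show mkq (a (cR r)) = mkq _
      have hc : ((pullback.snd q s).appLE ⊤ V.1 (le_top.trans_eq (Scheme.Hom.preimage_top _).symm)).hom c = cH ((Scheme.ΓSpecIso (CommRingCat.of Rh)).hom.hom c) := by
        show _ = ((pullback.snd q s).appLE ⊤ V.1 _).hom _
        exact congrArg _ (by rw [← CommRingCat.comp_apply, Iso.hom_inv_id]; rfl)
      rw [hc, hy, map_add, map_mul, hcomm, hcomm, map_pow, map_pow, map_add, map_mul]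
      have h0 : mkq (a t ^ n) = 0 := Ideal.Quotient.eq_zero_iff_mem.2 (Ideal.mem_span_singleton_self _)
      rw [h0, zero_mul, add_zero]
  obtain ⟨b, hb⟩ := hall x
  have hsub : x - a b ∈ Ideal.span {a t ^ n} := Ideal.Quotient.eq.1 hb.symm
  have hbI : a b ∈ I.ideal V := by
    have : x - a b ∈ I.ideal V := (Ideal.span_singleton_le_iff_mem _).2 hn hsub
    simpa using (I.ideal V).sub_mem hx this
  have hap : a = (p.app U.1).hom := by
    show (p.appLE U.1 V.1 le_rfl).hom = _
    rw [Scheme.Hom.app_eq_appLE]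
  rw [← sub_add_cancel x (a b)]
  refine Ideal.add_mem _ ?_ ?_
  · refine (Ideal.span_singleton_le_iff_mem _).2 ?_ hsub
    rw [← map_pow, hap]
    exact Ideal.mem_map_of_mem _ (Ideal.mem_comap.2 (by rw [← hap, map_pow]; exact hn))
  · rw [hap]
    exact Ideal.mem_map_of_mem _ (Ideal.mem_comap.2 (by rw [← hap]; exact hbI))

end DescComplLib
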